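import Mathlib

set_option autoImplicit false
universe u

open DirectSum

namespace Groth.Agent.EGA2Gr

variable {R A : Type u} [CommRing R] [CommRing A] [Algebra R A] (𝒜 : ℕ → Submodule R A) [GradedAlgebra 𝒜]

/-- Components of elements of an ideal spanned by homogeneous elements. -/
lemma decompose_mem_of_mem_span {E : Set A} {n : ℕ} {P : AddSubmonoid A}
    (h : ∀ e ∈ E, ∀ a : A, (decompose 𝒜 (a * e) n : A) ∈ P)
    {y : A} (hy : y ∈ Ideal.span E) : (decompose 𝒜 y n : A) ∈ P := by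
  suffices ∀ a : A, (decompose 𝒜 (a * y) n : A) ∈ P by simpa using this 1
  induction hy using Submodule.span_induction with
  | mem e he => exact h e he
  | zero => intro a; simp [P.zero_mem]
  | add x y _ _ hx hy =>
    intro a
    rw [mul_add, decompose_add]
    exact P.add_mem (hx a) (hy a)
  | smul r x _ hx =>
    intro a
    rw [smul_eq_mul, ← mul_assoc]
    exact hx _

lemma mem_irrelevant_iff' (x : A) :
    x ∈ (HomogeneousIdeal.irrelevant 𝒜).toIdeal ↔ (decompose 𝒜 x 0 : A) = 0 := Iff.rfl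

lemma span_le_irrelevant {E : Set A} (hE : ∀ e ∈ E, ∃ d : ℕ, 0 < d ∧ e ∈ 𝒜 d) :
    Ideal.span E ≤ (HomogeneousIdeal.irrelevant 𝒜).toIdeal :=
  Ideal.span_le.mpr fun e he ↦ by
    obtain ⟨d, hd, hed⟩ := hE e he
    exact HomogeneousIdeal.mem_irrelevant_of_mem 𝒜 hd hed

/-- If homogeneous elements of positive degree generate `A₊`, they generate `A` over `A₀`. -/
lemma adjoin_eq_top_of_irrelevant_le {E : Set A} (hE : ∀ e ∈ E, ∃ d : ℕ, 0 < d ∧ e ∈ 𝒜 d)
    (h : (HomogeneousIdeal.irrelevant 𝒜).toIdeal ≤ Ideal.span E) :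
    Algebra.adjoin (𝒜 0) E = ⊤ := by
  classical
  have key : ∀ n : ℕ, ∀ x ∈ 𝒜 n, x ∈ Algebra.adjoin (𝒜 0) E := by
    intro n
    induction n using Nat.strong_induction_on with
    | _ n ih =>
      intro x hx
      rcases Nat.eq_zero_or_pos n with rfl | hn
      · exact Subalgebra.algebraMap_mem (Algebra.adjoin (𝒜 0) E) ⟨x, hx⟩
      · have hx' := h (HomogeneousIdeal.mem_irrelevant_of_mem 𝒜 hn hx)
        rw [← decompose_of_mem_same 𝒜 hx]
        refine decompose_mem_of_mem_span 𝒜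
          (P := (Algebra.adjoin (𝒜 0) E).toSubsemiring.toAddSubmonoid) ?_ hx'
        intro e he a
        obtain ⟨d, hd, hed⟩ := hE e he
        rw [coe_decompose_mul_of_right_mem 𝒜 n hed]
        show _ ∈ Algebra.adjoin (𝒜 0) E
        split
        · exact mul_mem (ih _ (by omega) _ (SetLike.coe_mem _)) (Algebra.subset_adjoin he)
        · exact zero_mem _
  rw [eq_top_iff]
  rintro x -
  rw [← sum_support_decompose 𝒜 x]
  exact sum_mem fun i _ ↦ key i _ (SetLike.coe_mem _)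

/-- If homogeneous elements of positive degree generate `A` over `A₀`, they generate `A₊`. -/
lemma irrelevant_eq_span_of_adjoin_eq_top {E : Set A} (hE : ∀ e ∈ E, ∃ d : ℕ, 0 < d ∧ e ∈ 𝒜 d)
    (h : Algebra.adjoin (𝒜 0) E = ⊤) :
    (HomogeneousIdeal.irrelevant 𝒜).toIdeal = Ideal.span E := by
  refine le_antisymm (fun x hx ↦ ?_) (span_le_irrelevant 𝒜 hE)
  have hz := span_le_irrelevant 𝒜 hE
  suffices x - GradedRing.projZeroRingHom 𝒜 x ∈ Ideal.span E by
    have h0 : GradedRing.projZeroRingHom 𝒜 x = 0 := hx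
    rwa [h0, sub_zero] at this
  have hxt : x ∈ Algebra.adjoin (𝒜 0) E := h ▸ trivial
  clear hx
  induction hxt using Algebra.adjoin_induction with
  | mem e he =>
    have h0 : GradedRing.projZeroRingHom 𝒜 e = 0 := hz (Ideal.subset_span he)
    rw [h0, sub_zero]
    exact Ideal.subset_span he
  | algebraMap c =>
    have h0 : GradedRing.projZeroRingHom 𝒜 (algebraMap (𝒜 0) A c) = algebraMap (𝒜 0) A c :=
      decompose_of_mem_same 𝒜 c.2
    rw [h0, sub_self]
    exact zero_mem _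
  | add x y _ _ hx hy =>
    rw [map_add, add_sub_add_comm]
    exact add_mem hx hy
  | mul x y _ _ hx hy =>
    have : x * y - GradedRing.projZeroRingHom 𝒜 (x * y) =
        (x - GradedRing.projZeroRingHom 𝒜 x) * y +
          GradedRing.projZeroRingHom 𝒜 x * (y - GradedRing.projZeroRingHom 𝒜 y) := by
      rw [map_mul]; ring
    rw [this]
    exact add_mem (Ideal.mul_mem_right _ _ hx) (Ideal.mul_mem_left _ _ hy)

/-- A finitely generated `A₊` has finitely many homogeneous generators of positive degree. -/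
lemma exists_finset_of_fg (h : (HomogeneousIdeal.irrelevant 𝒜).toIdeal.FG) :
    ∃ s : Finset A, (∀ e ∈ s, ∃ d : ℕ, 0 < d ∧ e ∈ 𝒜 d) ∧
      (HomogeneousIdeal.irrelevant 𝒜).toIdeal = Ideal.span (s : Set A) := by
  classical
  obtain ⟨G, hG⟩ := h
  replace hG : Ideal.span (G : Set A) = (HomogeneousIdeal.irrelevant 𝒜).toIdeal := hG
  let s : Finset A := G.biUnion fun g ↦ (decompose 𝒜 g).support.image fun i ↦ (decompose 𝒜 g i : A)
  have hs : ∀ e ∈ s, ∃ d : ℕ, 0 < d ∧ e ∈ 𝒜 d := by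
    intro e he
    obtain ⟨g, hg, he⟩ := Finset.mem_biUnion.mp he
    obtain ⟨i, hi, rfl⟩ := Finset.mem_image.mp he
    refine ⟨i, Nat.pos_of_ne_zero ?_, SetLike.coe_mem _⟩
    rintro rfl
    have : g ∈ (HomogeneousIdeal.irrelevant 𝒜).toIdeal := hG ▸ Ideal.subset_span hg
    rw [mem_irrelevant_iff'] at this
    exact DFinsupp.mem_support_iff.mp hi (Subtype.ext this)
  refine ⟨s, hs, le_antisymm ?_ (span_le_irrelevant 𝒜 hs)⟩
  rw [← hG, Ideal.span_le]
  intro g hg
  rw [← sum_support_decompose 𝒜 g]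
  exact sum_mem fun i hi ↦ Ideal.subset_span
    (Finset.mem_biUnion.mpr ⟨g, hg, Finset.mem_image.mpr ⟨i, hi, rfl⟩⟩)

lemma finiteType_of_fg (h : (HomogeneousIdeal.irrelevant 𝒜).toIdeal.FG) :
    Algebra.FiniteType (𝒜 0) A := by
  obtain ⟨s, hs, hspan⟩ := exists_finset_of_fg 𝒜 h
  exact ⟨⟨s, adjoin_eq_top_of_irrelevant_le 𝒜 hs hspan.le⟩⟩

lemma exists_finset_generators [Algebra.FiniteType (𝒜 0) A] :
    ∃ s : Finset A, (∀ e ∈ s, ∃ d : ℕ, 0 < d ∧ e ∈ 𝒜 d) ∧ Algebra.adjoin (𝒜 0) (s : Set A) = ⊤ ∧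
      (HomogeneousIdeal.irrelevant 𝒜).toIdeal = Ideal.span (s : Set A) := by
  obtain ⟨s, hs, hs'⟩ := GradedAlgebra.exists_finset_adjoin_eq_top_and_homogeneous_ne_zero 𝒜
  have hs'' : ∀ e ∈ (s : Set A), ∃ d : ℕ, 0 < d ∧ e ∈ 𝒜 d := fun e he ↦ by
    obtain ⟨n, hn, hn'⟩ := hs' e he
    exact ⟨n, Nat.pos_of_ne_zero hn, hn'⟩
  exact ⟨s, hs'', hs, irrelevant_eq_span_of_adjoin_eq_top 𝒜 hs'' hs⟩

lemma fg_of_finiteType [Algebra.FiniteType (𝒜 0) A] :
    (HomogeneousIdeal.irrelevant 𝒜).toIdeal.FG := by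
  obtain ⟨s, -, -, hs⟩ := exists_finset_generators 𝒜
  exact ⟨s, hs.symm⟩

lemma finiteType_of_isNoetherianRing [IsNoetherianRing A] : Algebra.FiniteType (𝒜 0) A :=
  finiteType_of_fg 𝒜 (IsNoetherian.noetherian _)

lemma isNoetherianRing_away [IsNoetherianRing A] {d : ℕ} (f : A) (hf : f ∈ 𝒜 d) :
    IsNoetherianRing (HomogeneousLocalization.Away 𝒜 f) := by
  have := finiteType_of_isNoetherianRing 𝒜
  have := HomogeneousLocalization.Away.finiteType f d hf
  exact Algebra.FiniteType.isNoetherianRing (𝒜 0) _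

/-- `A_m ⊆ (A₊)ⁿ` for `m` large. -/
lemma exists_forall_mem_irrelevant_pow [Algebra.FiniteType (𝒜 0) A] (n : ℕ) :
    ∃ m₀ : ℕ, ∀ m : ℕ, m₀ ≤ m → ∀ x ∈ 𝒜 m, x ∈ (HomogeneousIdeal.irrelevant 𝒜).toIdeal ^ n := by
  classical
  obtain ⟨s, hs, -, hspan⟩ := exists_finset_generators 𝒜
  choose! deg hdeg using hs
  refine ⟨n * (s.sup deg + 1), ?_⟩
  induction n with
  | zero => intro m _ x _; simp
  | succ n ih =>
    intro m hm x hx
    have hx' : x ∈ Ideal.span (s : Set A) := hspan ▸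
      HomogeneousIdeal.mem_irrelevant_of_mem 𝒜 (by nlinarith) hx
    rw [← decompose_of_mem_same 𝒜 hx]
    refine decompose_mem_of_mem_span 𝒜
      (P := ((HomogeneousIdeal.irrelevant 𝒜).toIdeal ^ (n + 1)).toAddSubmonoid) ?_ hx'
    intro e he a
    rw [coe_decompose_mul_of_right_mem 𝒜 m (hdeg e he).2]
    show _ ∈ (HomogeneousIdeal.irrelevant 𝒜).toIdeal ^ (n + 1)
    split
    · rw [pow_succ]
      refine Ideal.mul_mem_mul (ih _ ?_ _ (SetLike.coe_mem _))
        (HomogeneousIdeal.mem_irrelevant_of_mem 𝒜 (hdeg e he).1 (hdeg e he).2)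
      have : deg e ≤ s.sup deg := Finset.le_sup he
      rw [Nat.succ_mul] at hm
      omega
    · exact zero_mem _

/-- To check a property of a homogeneous element, it suffices to check it on monomials in
algebra generators. -/
lemma mem_of_forall_monomial {ι : Type*} [Fintype ι] {x : ι → A} {d : ι → ℕ}
    (hx : ∀ i, x i ∈ 𝒜 (d i)) (htop : Algebra.adjoin (𝒜 0) (Set.range x) = ⊤)
    {n : ℕ} {P : AddSubmonoid A}
    (h : ∀ a : ι → ℕ, ∑ i, a i * d i = n → ∀ c ∈ 𝒜 0, c * ∏ i, x i ^ a i ∈ P)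
    {y : A} (hy : y ∈ 𝒜 n) : y ∈ P := by
  classical
  have hy' : y ∈ (MvPolynomial.aeval (R := 𝒜 0) x).range := by
    rw [← Algebra.adjoin_range_eq_range_aeval, htop]; trivial
  obtain ⟨p, hp⟩ := hy'
  replace hp : MvPolynomial.aeval x p = y := hp
  subst hp
  rw [← decompose_of_mem_same 𝒜 hy]
  clear hy
  induction p using MvPolynomial.induction_on' with
  | monomial a c =>
    have hm : ∏ i, x i ^ a i ∈ 𝒜 (∑ i, a i * d i) := by
      apply SetLike.prod_mem_graded
      intro i _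
      simpa [smul_eq_mul] using SetLike.pow_mem_graded (a i) (hx i)
    have heq : MvPolynomial.aeval x (MvPolynomial.monomial a c) = (c : A) * ∏ i, x i ^ a i := by
      rw [MvPolynomial.aeval_monomial, Finsupp.prod_fintype _ _ (by simp)]
      rfl
    rw [heq]
    by_cases hn : ∑ i, a i * d i = n
    · rw [decompose_of_mem_same]
      · exact h a hn _ c.2
      · simpa [hn] using SetLike.mul_mem_graded c.2 hm
    · rw [decompose_of_mem_ne 𝒜 (SetLike.mul_mem_graded c.2 hm) (by simpa using hn)]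
      exact P.zero_mem
  | add p q hp hq =>
    rw [map_add, decompose_add]
    exact P.add_mem hp hq

/-- For a common multiple `D` of the degrees of `N` generators and `n ≥ N·D`, one has
`A_{n+D} = A_D · A_n`. -/
lemma exists_degree_add_eq_mul [Algebra.FiniteType (𝒜 0) A] :
    ∃ D : ℕ, 0 < D ∧ ∃ n₀ : ℕ, ∀ n : ℕ, n₀ ≤ n → 𝒜 (n + D) = 𝒜 D * 𝒜 n := by
  classical
  obtain ⟨s, hs, htop, -⟩ := exists_finset_generators 𝒜
  choose! deg hdeg using hs
  let x : s → A := fun i ↦ i.1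
  let d : s → ℕ := fun i ↦ deg i.1
  have hx : ∀ i, x i ∈ 𝒜 (d i) := fun i ↦ (hdeg i.1 i.2).2
  have htop' : Algebra.adjoin (𝒜 0) (Set.range x) = ⊤ := by
    rw [show Set.range x = (s : Set A) from Subtype.range_coe]; exact htop
  refine ⟨∏ i, d i, Finset.prod_pos fun i _ ↦ (hdeg i.1 i.2).1, Fintype.card s * ∏ i, d i + 1,
    fun n hn ↦ le_antisymm ?_ ?_⟩
  · intro y hy
    refine mem_of_forall_monomial 𝒜 hx htop' (P := (𝒜 (∏ i, d i) * 𝒜 n).toAddSubmonoid) ?_ hy
    intro a ha c hc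
    have hex : ∃ i, ∏ j, d j ≤ a i * d i := by
      by_contra! hcon
      have h4 := Finset.sum_le_card_nsmul Finset.univ (fun i ↦ a i * d i) _ fun i _ ↦ (hcon i).le
      rw [ha, smul_eq_mul, Finset.card_univ] at h4
      omega
    obtain ⟨i, hi⟩ := hex
    obtain ⟨k, hk⟩ : d i ∣ ∏ j, d j := Finset.dvd_prod_of_mem d (Finset.mem_univ i)
    have hki : k ≤ a i := by
      have h0 : 0 < d i := (hdeg i.1 i.2).1
      rw [hk, mul_comm (d i)] at hi
      exact Nat.le_of_mul_le_mul_right hi h0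
    have hb : ∏ j, x j ^ a j = x i ^ k * ∏ j, x j ^ (a j - if j = i then k else 0) := by
      rw [← Fintype.prod_ite_eq' i (fun _ ↦ x i ^ k), ← Finset.prod_mul_distrib]
      refine Finset.prod_congr rfl fun j _ ↦ ?_
      split
      · subst_vars; rw [← pow_add]; congr 1; omega
      · simp
    have h1 : x i ^ k ∈ 𝒜 (∏ j, d j) := by
      rw [hk, mul_comm]; simpa [smul_eq_mul] using SetLike.pow_mem_graded k (hx i)
    have h2 : c * ∏ j, x j ^ (a j - if j = i then k else 0) ∈ 𝒜 n := by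
      have hsum : ∑ j, (a j - if j = i then k else 0) * d j = n := by
        have h3 : ∑ j, (a j - if j = i then k else 0) * d j + ∑ j, (if j = i then k else 0) * d j =
            ∑ j, a j * d j := by
          rw [← Finset.sum_add_distrib]
          refine Finset.sum_congr rfl fun j _ ↦ ?_
          rw [← add_mul, Nat.sub_add_cancel]
          split
          · subst_vars; exact hki
          · exact Nat.zero_le _
        rw [ha, hk, mul_comm (d i)] at h3
        simp only [ite_mul, zero_mul, Finset.sum_ite_eq', Finset.mem_univ, if_true] at h3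
        omega
      have hp : ∏ j, x j ^ (a j - if j = i then k else 0) ∈
          𝒜 (∑ j, (a j - if j = i then k else 0) * d j) := by
        apply SetLike.prod_mem_graded
        intro j _
        simpa [smul_eq_mul] using SetLike.pow_mem_graded (a j - if j = i then k else 0) (hx j)
      rw [hsum] at hp
      simpa using SetLike.mul_mem_graded hc hp
    show c * ∏ j, x j ^ a j ∈ 𝒜 (∏ j, d j) * 𝒜 n
    rw [hb, mul_left_comm]
    exact Submodule.mul_mem_mul h1 h2
  · rw [Submodule.mul_le]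
    intro p hp q hq
    rw [add_comm n]
    exact SetLike.mul_mem_graded hp hq

/-- The graded piece `n` of a finitely generated graded module. -/
lemma mem_of_forall_generators {M : Type u} [AddCommGroup M] [Module R M] [Module A M]
    (ℳ : ℕ → Submodule R M) [DirectSum.Decomposition ℳ] [SetLike.GradedSMul 𝒜 ℳ]
    {Z : Set M} {deg : M → ℕ} (hZ : ∀ z ∈ Z, z ∈ ℳ (deg z)) (htop : Submodule.span A Z = ⊤)
    {n : ℕ} {P : AddSubmonoid M}
    (h : ∀ z ∈ Z, ∀ i : ℕ, i + deg z = n → ∀ a ∈ 𝒜 i, a • z ∈ P)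
    {y : M} (hy : y ∈ ℳ n) : y ∈ P := by
  classical
  suffices ∀ a : A, (decompose ℳ (a • y) n : M) ∈ P by
    simpa [decompose_of_mem_same ℳ hy] using this 1
  have hyt : y ∈ Submodule.span A Z := htop ▸ trivial
  clear hy
  induction hyt using Submodule.span_induction with
  | mem z hz =>
    intro a
    induction a using DirectSum.Decomposition.inductionOn 𝒜 with
    | zero => simp [P.zero_mem]
    | homogeneous m =>
      rename_i i
      have hm : (m : A) • z ∈ ℳ (i + deg z) := SetLike.GradedSMul.smul_mem m.2 (hZ z hz)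
      by_cases hn : i + deg z = n
      · rw [decompose_of_mem_same ℳ (hn ▸ hm)]
        exact h z hz i hn _ m.2
      · rw [decompose_of_mem_ne ℳ hm hn]
        exact P.zero_mem
    | add a b ha hb =>
      rw [add_smul, decompose_add]
      exact P.add_mem ha hb
  | zero => intro a; simp [P.zero_mem]
  | add x y _ _ hx hy =>
    intro a
    rw [smul_add, decompose_add]
    exact P.add_mem (hx a) (hy a)
  | smul r x _ hx =>
    intro a
    rw [smul_smul]
    exact hx _

section proj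

/-- The key lemma: an element of `A₊` vanishing on `V₊(I)` is in the radical of `I`. -/
lemma mem_radical_of_forall {I : Ideal A} (hI : I.IsHomogeneous 𝒜) {f : A}
    (hf : f ∈ (HomogeneousIdeal.irrelevant 𝒜).toIdeal)
    (h : ∀ x : ProjectiveSpectrum 𝒜, I ≤ x.asHomogeneousIdeal.toIdeal →
      f ∈ x.asHomogeneousIdeal.toIdeal) : f ∈ I.radical := by
  rw [hI.radical_eq]
  refine Submodule.mem_sInf.mpr ?_
  rintro J ⟨hJh, hIJ, hJp⟩
  by_contra hfJ
  exact hfJ (h ⟨⟨J, hJh⟩, hJp, fun hle ↦ hfJ (hle hf)⟩ hIJ)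

lemma irrelevant_inf_vanishingIdeal {I : Ideal A} (hI : I.IsHomogeneous 𝒜) :
    (HomogeneousIdeal.irrelevant 𝒜).toIdeal ⊓
        (ProjectiveSpectrum.vanishingIdeal (ProjectiveSpectrum.zeroLocus 𝒜 (I : Set A))).toIdeal =
      (HomogeneousIdeal.irrelevant 𝒜).toIdeal ⊓ I.radical := by
  refine le_antisymm (le_inf inf_le_left ?_) (le_inf inf_le_left ?_)
  · rintro f ⟨hf, hf'⟩
    refine mem_radical_of_forall 𝒜 hI hf fun x hx ↦ ?_
    exact (ProjectiveSpectrum.mem_vanishingIdeal _ f).mp hf' x hx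
  · rintro f ⟨-, hf'⟩
    refine (ProjectiveSpectrum.mem_vanishingIdeal _ f).mpr fun x hx ↦ ?_
    exact (x.isPrime.radical_le_iff.mpr hx) hf'

lemma exists_homogeneous_notMem (x : ProjectiveSpectrum 𝒜) :
    ∃ (d : ℕ) (f : A), 0 < d ∧ f ∈ 𝒜 d ∧ f ∉ x.asHomogeneousIdeal.toIdeal := by
  by_contra! h
  exact x.not_irrelevant_le ((HomogeneousIdeal.toIdeal_irrelevant_le 𝒜).mpr fun i hi f hf ↦ h i f hi hf)

lemma forall_isNilpotent_iff_isEmpty :
    IsEmpty (ProjectiveSpectrum 𝒜) ↔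
      ∀ f ∈ (HomogeneousIdeal.irrelevant 𝒜).toIdeal, IsNilpotent f := by
  refine ⟨fun h f hf ↦ ?_, fun h ↦ ⟨fun x ↦ ?_⟩⟩
  · simpa [Ideal.radical, IsNilpotent] using mem_radical_of_forall 𝒜 (Ideal.IsHomogeneous.bot 𝒜) hf
      fun x _ ↦ isEmptyElim x
  · obtain ⟨d, f, hd, hf, hfx⟩ := exists_homogeneous_notMem 𝒜 x
    obtain ⟨n, hn⟩ := h f (HomogeneousIdeal.mem_irrelevant_of_mem 𝒜 hd hf)
    exact hfx (x.isPrime.mem_of_pow_mem n (hn ▸ zero_mem _))

lemma iSup_basicOpen_eq_top_iff {ι : Type*} (f : ι → A) (hf : ∀ i, ∃ d : ℕ, 0 < d ∧ f i ∈ 𝒜 d) :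
    (⨆ i, AlgebraicGeometry.Proj.basicOpen 𝒜 (f i)) = ⊤ ↔
      (HomogeneousIdeal.irrelevant 𝒜).toIdeal ≤ (Ideal.span (Set.range f)).radical := by
  have hhom : (Ideal.span (Set.range f)).IsHomogeneous 𝒜 :=
    Ideal.homogeneous_span 𝒜 _ (by rintro _ ⟨i, rfl⟩; obtain ⟨d, -, h⟩ := hf i; exact ⟨d, h⟩)
  have hmem : ∀ x : ProjectiveSpectrum 𝒜,
      (x ∈ ⨆ i, AlgebraicGeometry.Proj.basicOpen 𝒜 (f i)) ↔ ∃ i, f i ∉ x.asHomogeneousIdeal.toIdeal :=
    fun x ↦ TopologicalSpace.Opens.mem_iSup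
  constructor
  · intro h g hg
    refine mem_radical_of_forall 𝒜 hhom hg fun x hx ↦ ?_
    obtain ⟨i, hi⟩ := (hmem x).mp (h ▸ trivial)
    exact absurd (hx (Ideal.subset_span ⟨i, rfl⟩)) hi
  · intro h
    rw [eq_top_iff]
    intro x _
    refine (hmem x).mpr ?_
    by_contra! hx
    exact ProjectiveSpectrum.not_irrelevant_le x (h.trans (x.isPrime.radical_le_iff.mpr
      (Ideal.span_le.mpr (by rintro _ ⟨i, rfl⟩; exact hx i))))

end proj

end Groth.Agent.EGA2Gr
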