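import Mathlib

set_option autoImplicit false
universe u

open Polynomial

namespace Groth.Agent.EGA2Gr

variable (A : Type u) [CommRing A] [IsDomain A] (K : Type u) [Field K] [Algebra A K] [IsFractionRing A K]
  (E : Type u) [AddCommGroup E] [Module A E] [Module.Finite A E]

/-- The coefficients of the characteristic polynomial of an endomorphism of a finite module are
integral. -/
lemma isIntegral_coeff_charpoly (u : E →ₗ[A] E) (i : ℕ) :
    IsIntegral A (((u.baseChange K).charpoly).coeff i) := by
  classical
  obtain ⟨P, hP, hPu⟩ := LinearMap.exists_monic_and_aeval_eq_zero A u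
  let L := AlgebraicClosure K
  let b := Module.finBasis K (TensorProduct A K E)
  let M := LinearMap.toMatrix b b (u.baseChange K)
  let ML := M.map (algebraMap K L)
  have hPK : Polynomial.aeval (u.baseChange K) P = 0 := by
    change Polynomial.aeval (Module.End.baseChangeHom A K E u) P = 0
    rw [Polynomial.aeval_algHom_apply, hPu, map_zero]
  have hPM : Polynomial.aeval M (P.map (algebraMap A K)) = 0 := by
    have h2 := Polynomial.aeval_algHom_apply (LinearMap.toMatrixAlgEquiv b).toAlgHom
      (u.baseChange K) (P.map (algebraMap A K))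
    rw [Polynomial.aeval_map_algebraMap, Polynomial.aeval_map_algebraMap, hPK, map_zero] at h2
    rw [Polynomial.aeval_map_algebraMap]
    exact h2
  have hPML : Polynomial.aeval ML ((P.map (algebraMap A K)).map (algebraMap K L)) = 0 := by
    rw [Polynomial.aeval_map_algebraMap]
    change Polynomial.aeval ((Algebra.ofId K L).mapMatrix M) _ = 0
    rw [Polynomial.aeval_algHom_apply, hPM, map_zero]
  have hroots : ∀ r ∈ ML.charpoly.roots, IsIntegral A r := by
    intro r hr
    have hr' := (Polynomial.mem_roots (Matrix.charpoly_monic ML).ne_zero).mp hr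
    have hspec := Matrix.mem_spectrum_iff_isRoot_charpoly.mpr hr'
    have : Nontrivial (Matrix (Fin (Module.finrank K (TensorProduct A K E)))
        (Fin (Module.finrank K (TensorProduct A K E))) L) := by
      by_contra hnt
      rw [not_nontrivial_iff_subsingleton] at hnt
      simp [spectrum.of_subsingleton] at hspec
    have h3 := spectrum.subset_polynomial_aeval ML
      ((P.map (algebraMap A K)).map (algebraMap K L)) ⟨r, hspec, rfl⟩
    rw [hPML, spectrum.zero_eq, Set.mem_singleton_iff, Polynomial.map_map,
      ← IsScalarTower.algebraMap_eq] at h3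
    exact ⟨P, hP, by simpa [Polynomial.eval_map] using h3⟩
  have hlift : ML.charpoly ∈ Polynomial.lifts (algebraMap (integralClosure A L) L) := by
    rw [(IsAlgClosed.splits ML.charpoly).eq_prod_roots_of_monic (Matrix.charpoly_monic ML)]
    refine multiset_prod_mem _ fun q hq ↦ ?_
    obtain ⟨r, hr, rfl⟩ := Multiset.mem_map.mp hq
    exact ⟨X - C ⟨r, hroots r hr⟩, by simp⟩
  obtain ⟨c, hc⟩ := (Polynomial.lifts_iff_coeff_lifts _).mp hlift i
  rw [← isIntegral_algebraMap_iff (FaithfulSMul.algebraMap_injective K L)]
  have : ML.charpoly.coeff i = algebraMap K L ((u.baseChange K).charpoly.coeff i) := by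
    simp [ML, M, Matrix.charpoly_map]
  rw [← this, ← hc]
  exact c.2

lemma isUnit_of_det_eq (u : E →ₗ[A] E) (a : A)
    (ha : algebraMap A K a = LinearMap.det (u.baseChange K)) (hu : Function.Bijective u) :
    IsUnit a := by
  let v := LinearEquiv.ofBijective u hu
  have hdet : IsIntegral A (LinearMap.det (v.symm.toLinearMap.baseChange K)) := by
    rw [LinearMap.det_eq_sign_charpoly_coeff]
    exact ((isIntegral_one.neg).pow _).mul (isIntegral_coeff_charpoly A K E _ 0)
  have h1 : algebraMap A K a * LinearMap.det (v.symm.toLinearMap.baseChange K) = 1 := by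
    rw [ha, ← map_mul, Module.End.mul_eq_comp, ← LinearMap.baseChange_comp]
    have : u ∘ₗ v.symm.toLinearMap = LinearMap.id :=
      LinearMap.ext fun x ↦ v.apply_symm_apply x
    rw [this, LinearMap.baseChange_id, LinearMap.det_id]
  have hunit : IsUnit (algebraMap A (integralClosure A K) a) :=
    isUnit_iff_exists_inv.mpr ⟨⟨_, hdet⟩, Subtype.ext h1⟩
  exact IsUnit.of_map (algebraMap A (integralClosure A K)) _ hunit

end Groth.Agent.EGA2Gr
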