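import Groth.Agent.EGA2Gr.Irrelevant

set_option autoImplicit false
universe u

namespace Groth.Agent.EGA2Gr

variable {R A : Type u} [CommRing R] [CommRing A] [Algebra R A] (𝒜 : ℕ → Submodule R A) [GradedAlgebra 𝒜]
  {B : Type u} [CommRing B] [Algebra R B] (ℬ : ℕ → Submodule R B) [GradedAlgebra ℬ]

include ℬ in
/-- The Veronese subring of a finite type graded algebra is of finite type. -/
lemma veronese_finiteType [Algebra.FiniteType (𝒜 0) A]
    (d : ℕ) (hd : 0 < d) (φ : B →ₐ[R] A) (hφ : Function.Injective φ)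
    (hdeg : ∀ n : ℕ, Submodule.map φ.toLinearMap (ℬ n) = 𝒜 (n * d)) :
    Algebra.FiniteType (ℬ 0) B := by
  classical
  obtain ⟨s, hs, htop, -⟩ := exists_finset_generators 𝒜
  choose! deg hdeg' using hs
  let x : s → A := fun i ↦ i.1
  let e : s → ℕ := fun i ↦ deg i.1
  have hx : ∀ i, x i ∈ 𝒜 (e i) := fun i ↦ (hdeg' i.1 i.2).2
  have htop' : Algebra.adjoin (𝒜 0) (Set.range x) = ⊤ := by
    rw [show Set.range x = (s : Set A) from Subtype.range_coe]; exact htop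
  have hpre : ∀ {n : ℕ} {a : A}, a ∈ 𝒜 (n * d) → ∃ b ∈ ℬ n, φ b = a := fun {n a} ha ↦ by
    rw [← hdeg n] at ha
    exact ha
  let T : Set A := Set.range (fun i ↦ x i ^ d) ∪
    Set.range (fun r : s → Fin d ↦ ∏ i, x i ^ (r i : ℕ))
  have hT : T.Finite := (Set.finite_range _).union (Set.finite_range _)
  let G : Set B := φ ⁻¹' T
  have hG : G.Finite := hT.preimage hφ.injOn
  let S : Subalgebra (ℬ 0) B := Algebra.adjoin (ℬ 0) G
  refine ⟨⟨hG.toFinset, ?_⟩⟩
  rw [Set.Finite.coe_toFinset, eq_top_iff]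
  let Im : Subring A := S.toSubring.map (φ : B →+* A)
  have key : ∀ n, ∀ a ∈ 𝒜 (n * d), a ∈ Im := by
    intro n a ha
    refine mem_of_forall_monomial 𝒜 hx htop' (P := Im.toAddSubgroup.toAddSubmonoid) ?_ ha
    intro q hq c hc
    show c * ∏ i, x i ^ q i ∈ Im
    have hc' : c ∈ Im := by
      obtain ⟨b, hb, rfl⟩ := hpre (n := 0) (show c ∈ 𝒜 (0 * d) by rwa [Nat.zero_mul])
      exact ⟨b, S.algebraMap_mem ⟨b, hb⟩, rfl⟩
    refine mul_mem hc' ?_
    have hsplit : ∏ i, x i ^ q i = (∏ i, (x i ^ d) ^ (q i / d)) * ∏ i, x i ^ (q i % d) := by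
      rw [← Finset.prod_mul_distrib]
      exact Finset.prod_congr rfl fun i _ ↦ by rw [← pow_mul, ← pow_add, Nat.div_add_mod]
    rw [hsplit]
    refine mul_mem (prod_mem fun i _ ↦ pow_mem ?_ _) ?_
    · obtain ⟨b, -, hb⟩ := hpre (n := e i) (a := x i ^ d) (by
        simpa [smul_eq_mul, mul_comm] using SetLike.pow_mem_graded d (hx i))
      exact ⟨b, Algebra.subset_adjoin (show φ b ∈ T from hb ▸ .inl ⟨i, rfl⟩), hb⟩
    · have hsum : ∑ i, (q i % d) * e i + d * ∑ i, (q i / d) * e i = n * d := by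
        rw [Finset.mul_sum, ← Finset.sum_add_distrib, ← hq]
        refine Finset.sum_congr rfl fun i _ ↦ ?_
        rw [← mul_assoc, ← add_mul, Nat.mod_add_div]
      obtain ⟨m, hm⟩ : d ∣ ∑ i, (q i % d) * e i :=
        (Nat.dvd_add_left (dvd_mul_right _ _)).mp (hsum ▸ dvd_mul_left d n)
      have hmem : ∏ i, x i ^ (q i % d) ∈ 𝒜 (∑ i, (q i % d) * e i) := by
        apply SetLike.prod_mem_graded
        intro i _
        simpa [smul_eq_mul] using SetLike.pow_mem_graded (q i % d) (hx i)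
      rw [hm, mul_comm] at hmem
      obtain ⟨b, -, hb⟩ := hpre hmem
      exact ⟨b, Algebra.subset_adjoin (show φ b ∈ T from
        hb ▸ .inr ⟨fun i ↦ ⟨q i % d, Nat.mod_lt _ hd⟩, rfl⟩), hb⟩
  rintro b -
  rw [← DirectSum.sum_support_decompose ℬ b]
  refine sum_mem fun n _ ↦ ?_
  have : φ (DirectSum.decompose ℬ b n : B) ∈ 𝒜 (n * d) := by
    rw [← hdeg n]; exact Submodule.mem_map_of_mem (SetLike.coe_mem _)
  obtain ⟨b', hb', hbb'⟩ := key n _ this
  rwa [← hφ hbb']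

include ℬ in
lemma veronese_isNoetherianRing [IsNoetherianRing A]
    (d : ℕ) (hd : 0 < d) (φ : B →ₐ[R] A) (hφ : Function.Injective φ)
    (hdeg : ∀ n : ℕ, Submodule.map φ.toLinearMap (ℬ n) = 𝒜 (n * d)) :
    IsNoetherianRing B := by
  have := finiteType_of_isNoetherianRing 𝒜
  have := veronese_finiteType 𝒜 ℬ d hd φ hφ hdeg
  have hmem : ∀ b : ℬ 0, φ b.1 ∈ 𝒜 0 := fun b ↦ by
    have h := Submodule.mem_map_of_mem (f := φ.toLinearMap) b.2
    rw [hdeg 0, Nat.zero_mul] at h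
    exact h
  let ψ : ℬ 0 →+* 𝒜 0 :=
    { toFun := fun b ↦ ⟨φ b.1, hmem b⟩
      map_one' := Subtype.ext (map_one φ)
      map_mul' := fun a b ↦ Subtype.ext (map_mul φ a.1 b.1)
      map_zero' := Subtype.ext (map_zero φ)
      map_add' := fun a b ↦ Subtype.ext (map_add φ a.1 b.1) }
  have hbij : Function.Bijective ψ := by
    refine ⟨fun a b h ↦ Subtype.ext (hφ (congrArg Subtype.val h)), fun c ↦ ?_⟩
    have h : c.1 ∈ Submodule.map φ.toLinearMap (ℬ 0) := by
      rw [hdeg 0, Nat.zero_mul]; exact c.2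
    obtain ⟨b, hb, hbc⟩ := h
    exact ⟨⟨b, hb⟩, Subtype.ext hbc⟩
  have : IsNoetherianRing (ℬ 0) :=
    isNoetherianRing_of_ringEquiv (𝒜 0) (RingEquiv.ofBijective ψ hbij).symm
  exact Algebra.FiniteType.isNoetherianRing (ℬ 0) B

end Groth.Agent.EGA2Gr
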